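import Mathlib.NumberTheory.Bernoulli
import Mathlib.RingTheory.PowerSeries.Inverse
import Mathlib.RingTheory.PowerSeries.Exp
import Mathlib.Tactic

/-! Low coefficients of Todd products. -/

open PowerSeries Finset

namespace Groth.Agent.MBTodd.Coeff

theorem coeff_mul_low (f g : PowerSeries ℚ) :
    coeff 0 (f * g) = coeff 0 f * coeff 0 g ∧
    coeff 1 (f * g) = coeff 0 f * coeff 1 g + coeff 1 f * coeff 0 g ∧
    coeff 2 (f * g) = coeff 0 f * coeff 2 g + coeff 1 f * coeff 1 g + coeff 2 f * coeff 0 g ∧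
    coeff 3 (f * g) = coeff 0 f * coeff 3 g + coeff 1 f * coeff 2 g + coeff 2 f * coeff 1 g +
      coeff 3 f * coeff 0 g := by
  refine ⟨?_, ?_, ?_, ?_⟩ <;>
  · rw [coeff_mul, Finset.Nat.sum_antidiagonal_eq_sum_range_succ_mk]
    simp [Finset.sum_range_succ]

theorem bern_low (a : ℚ) :
    coeff 0 (rescale a (bernoulli'PowerSeries ℚ)) = 1 ∧
    coeff 1 (rescale a (bernoulli'PowerSeries ℚ)) = a / 2 ∧
    coeff 2 (rescale a (bernoulli'PowerSeries ℚ)) = a ^ 2 / 12 ∧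
    coeff 3 (rescale a (bernoulli'PowerSeries ℚ)) = 0 := by
  simp only [coeff_rescale, bernoulli'PowerSeries, coeff_mk, bernoulli'_zero, bernoulli'_one,
    bernoulli'_two, bernoulli'_three, Algebra.algebraMap_self, RingHom.id_apply]
  norm_num [Nat.factorial]
  constructor <;> ring

theorem inv_low (f : PowerSeries ℚ) (h : coeff 0 f = 1) :
    coeff 0 f⁻¹ = 1 ∧ coeff 1 f⁻¹ = -coeff 1 f ∧
    coeff 2 f⁻¹ = coeff 1 f ^ 2 - coeff 2 f ∧
    coeff 3 f⁻¹ = -coeff 1 f ^ 3 + 2 * coeff 1 f * coeff 2 f - coeff 3 f := by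
  have h0 : constantCoeff f ≠ 0 := by
    rw [← coeff_zero_eq_constantCoeff_apply, h]; norm_num
  obtain ⟨e0, e1, e2, e3⟩ := coeff_mul_low f⁻¹ f
  rw [PowerSeries.inv_mul_cancel f h0, h] at e0 e1 e2 e3
  simp [coeff_one] at e0 e1 e2 e3
  have a0 : coeff 0 f⁻¹ = 1 := by simpa using e0
  rw [e0, inv_one] at e1 e2 e3
  have a1 : coeff 1 f⁻¹ = -coeff 1 f := by linarith
  rw [a1] at e2 e3
  have a2 : coeff 2 f⁻¹ = coeff 1 f ^ 2 - coeff 2 f := by linarith [sq (coeff 1 f)]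
  rw [a2] at e3
  exact ⟨a0, a1, a2, by linarith⟩

theorem exp_low (a : ℚ) :
    coeff 0 (rescale a (exp ℚ)) = 1 ∧ coeff 1 (rescale a (exp ℚ)) = a ∧
    coeff 2 (rescale a (exp ℚ)) = a ^ 2 / 2 ∧ coeff 3 (rescale a (exp ℚ)) = a ^ 3 / 6 := by
  simp only [coeff_rescale, coeff_exp, Algebra.algebraMap_self, RingHom.id_apply]
  norm_num [Nat.factorial]
  constructor <;> ring

/-- the product in question -/
noncomputable def prodSeries (α β γ : ℚ) (n : ℕ) : PowerSeries ℚ :=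
  (rescale α (bernoulli'PowerSeries ℚ))⁻¹ * rescale β (bernoulli'PowerSeries ℚ) *
    bernoulli'PowerSeries ℚ ^ n * rescale γ (exp ℚ)

theorem coeff_one_two (α β γ : ℚ) :
    coeff 1 (prodSeries α β γ 2) = -α / 2 + β / 2 + 1 + γ := by
  obtain ⟨b0, b1, b2, b3⟩ := bern_low α
  obtain ⟨c0, c1, c2, c3⟩ := bern_low β
  obtain ⟨d0, d1, d2, d3⟩ := bern_low 1
  rw [rescale_one, RingHom.id_apply] at d0 d1 d2 d3
  obtain ⟨i0, i1, i2, i3⟩ := inv_low _ b0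
  obtain ⟨e0, e1, e2, e3⟩ := exp_low γ
  rw [prodSeries, pow_two, (coeff_mul_low _ _).2.1, (coeff_mul_low _ _).1, (coeff_mul_low _ _).2.1,
    (coeff_mul_low _ _).1, (coeff_mul_low _ _).2.1, (coeff_mul_low _ _).1, (coeff_mul_low _ _).2.1,
    i0, i1, c0, c1, d0, d1, e0, e1, b1]
  ring

theorem coeff_three_four (α β γ : ℚ) :
    coeff 3 (prodSeries α β γ 4) =
      let f1 := β / 2 - α / 2
      let f2 := β ^ 2 / 12 - α * β / 4 + α ^ 2 / 6
      let f3 := -α / 2 * (β ^ 2 / 12) + α ^ 2 / 6 * (β / 2) + (-(α / 2) ^ 3 + α * (α ^ 2 / 12))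
      let g1 : ℚ := 2
      let g2 : ℚ := 11 / 6
      let g3 : ℚ := 1
      f3 + f2 * g1 + f1 * g2 + g3 + (f2 + f1 * g1 + g2) * γ + (f1 + g1) * (γ ^ 2 / 2) + γ ^ 3 / 6 := by
  obtain ⟨b0, b1, b2, b3⟩ := bern_low α
  obtain ⟨c0, c1, c2, c3⟩ := bern_low β
  obtain ⟨d0, d1, d2, d3⟩ := bern_low 1
  rw [rescale_one, RingHom.id_apply] at d0 d1 d2 d3
  obtain ⟨i0, i1, i2, i3⟩ := inv_low _ b0
  obtain ⟨e0, e1, e2, e3⟩ := exp_low γ
  rw [b1] at i1
  rw [b1, b2] at i2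
  rw [b1, b2, b3] at i3
  obtain ⟨u0, u1, u2, u3⟩ := coeff_mul_low (rescale α (bernoulli'PowerSeries ℚ))⁻¹
    (rescale β (bernoulli'PowerSeries ℚ))
  obtain ⟨s0, s1, s2, s3⟩ := coeff_mul_low (bernoulli'PowerSeries ℚ) (bernoulli'PowerSeries ℚ)
  obtain ⟨q0, q1, q2, q3⟩ := coeff_mul_low (bernoulli'PowerSeries ℚ * bernoulli'PowerSeries ℚ)
    (bernoulli'PowerSeries ℚ * bernoulli'PowerSeries ℚ)
  simp only [d0, d1, d2, d3] at s0 s1 s2 s3
  simp only [i0, i1, i2, i3, c0, c1, c2, c3] at u0 u1 u2 u3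
  simp only [s0, s1, s2, s3] at q0 q1 q2 q3
  rw [prodSeries, show bernoulli'PowerSeries ℚ ^ 4 =
    bernoulli'PowerSeries ℚ * bernoulli'PowerSeries ℚ *
      (bernoulli'PowerSeries ℚ * bernoulli'PowerSeries ℚ) by ring]
  obtain ⟨v0, v1, v2, v3⟩ := coeff_mul_low
    ((rescale α (bernoulli'PowerSeries ℚ))⁻¹ * rescale β (bernoulli'PowerSeries ℚ))
    (bernoulli'PowerSeries ℚ * bernoulli'PowerSeries ℚ *
      (bernoulli'PowerSeries ℚ * bernoulli'PowerSeries ℚ))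
  simp only [u0, u1, u2, u3, q0, q1, q2, q3] at v0 v1 v2 v3
  rw [(coeff_mul_low _ _).2.2.2, v0, v1, v2, v3, e0, e1, e2, e3]
  dsimp only
  ring

end Groth.Agent.MBTodd.Coeff
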