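import Mathlib
import Groth.Agent.MBTodd.Coeff

set_option autoImplicit false

open PowerSeries Groth.Agent.MBTodd.Coeff

namespace Groth.Agent.MBTodd

local notation "B" => bernoulli'PowerSeries ℚ

theorem neg_mul_exp : rescale (-1 : ℚ) B * exp ℚ = B := by
  have h := bernoulli'PowerSeries_mul_exp_sub_one ℚ
  have h' := congrArg (rescale (-1 : ℚ)) h
  rw [map_mul, map_mul, map_sub, map_one, rescale_X] at h'
  have he : rescale (-1 : ℚ) (exp ℚ) * exp ℚ = 1 := by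
    rw [mul_comm]
    simpa [evalNegHom] using exp_mul_exp_neg_eq_one (A := ℚ)
  have hne : (exp ℚ - 1 : PowerSeries ℚ) ≠ 0 := fun h0 => by
    have := congrArg (coeff 1) h0
    simp at this
  refine mul_right_cancel₀ hne ?_
  rw [h]
  simp only [map_neg, map_one] at h'
  linear_combination -exp ℚ * exp ℚ * h' + (rescale (-1 : ℚ) B * exp ℚ + X * exp ℚ) * he

/-- the part independent of `p` -/
noncomputable def R (n d : ℕ) (s : ℤ) : PowerSeries ℚ :=
  (rescale (-(d : ℚ)) B)⁻¹ * B ^ (n + 1) * rescale ((s : ℚ) - d - n - 1) (exp ℚ)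

theorem product_eq (n d : ℕ) (s : ℤ) (p : ℕ) :
    (rescale (-(d : ℚ)) B)⁻¹ * rescale (-((d : ℚ) * p)) B * B ^ (n + 1) *
      rescale ((d : ℚ) * p - d - n - 1 + s) (exp ℚ) = rescale ((d : ℚ) * p) B * R n d s := by
  have h := congrArg (rescale ((d : ℚ) * p)) neg_mul_exp
  rw [map_mul, rescale_rescale, neg_one_mul] at h
  rw [show (d : ℚ) * p - d - n - 1 + s = (d : ℚ) * p + ((s : ℚ) - d - n - 1) by ring,
    ← exp_mul_exp_eq_exp_add, ← h, R]
  ring

theorem R_zero (n d : ℕ) (s : ℤ) : coeff 0 (R n d s) = 1 := by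
  have hb := (bern_low (-(d : ℚ))).1
  have hi := (inv_low _ hb).1
  rw [R, (coeff_mul_low _ _).1, (coeff_mul_low _ _).1, hi, (exp_low _).1]
  simp [bernoulli'PowerSeries]

theorem coeff_one_pow (f : PowerSeries ℚ) (h : coeff 0 f = 1) (m : ℕ) :
    coeff 0 (f ^ m) = 1 ∧ coeff 1 (f ^ m) = m * coeff 1 f := by
  induction m with
  | zero => simp
  | succ m ih =>
    rw [pow_succ]
    refine ⟨by rw [(coeff_mul_low _ _).1, ih.1, h, mul_one], ?_⟩
    rw [(coeff_mul_low _ _).2.1, ih.1, ih.2, h]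
    push_cast; ring

theorem R_one (n d : ℕ) (s : ℤ) : coeff 1 (R n d s) = (2 * (s : ℚ) - d - n - 1) / 2 := by
  have hb := bern_low (-(d : ℚ))
  have h1 := bern_low (1 : ℚ)
  rw [rescale_one] at h1
  simp only [RingHom.id_apply] at h1
  have hi := inv_low _ hb.1
  have hp := coeff_one_pow _ h1.1 (n + 1)
  have hm := coeff_mul_low ((rescale (-(d : ℚ)) B)⁻¹) (B ^ (n + 1))
  have he := exp_low ((s : ℚ) - d - n - 1)
  rw [R, (coeff_mul_low _ _).2.1, hm.1, hm.2.1, hi.1, hi.2.1, hb.2.1, hp.1, hp.2, h1.2.1, he.1, he.2.1]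
  push_cast; ring

theorem coeff_rescale_B (a : ℚ) (i : ℕ) :
    coeff i (rescale a B) = bernoulli' i * a ^ i / (i.factorial : ℚ) := by
  simp [coeff_rescale, bernoulli'PowerSeries]; ring

/-- the lower order part -/
noncomputable def low (n d : ℕ) (s : ℤ) : Polynomial ℚ :=
  ∑ i ∈ Finset.range (n - 1),
    Polynomial.monomial i (bernoulli' i * (d : ℚ) ^ i / (i.factorial : ℚ) * coeff (n - i) (R n d s))

theorem low_natDegree (n d : ℕ) (s : ℤ) : (low n d s).natDegree ≤ n - 2 :=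
  Polynomial.natDegree_sum_le_of_forall_le _ _ fun i hi =>
    (Polynomial.natDegree_monomial_le _).trans (by have := Finset.mem_range.1 hi; omega)

theorem coeff_eq (n d : ℕ) (s : ℤ) (hn : 2 ≤ n) (p : ℕ) :
    coeff n ((rescale (-(d : ℚ)) B)⁻¹ * rescale (-((d : ℚ) * p)) B * B ^ (n + 1) *
      rescale ((d : ℚ) * p - d - n - 1 + s) (exp ℚ)) =
        bernoulli' n * ((d : ℚ) * p) ^ n / (Nat.factorial n : ℚ) +
          (2 * (s : ℚ) - d - n - 1) / 2 * bernoulli' (n - 1) * ((d : ℚ) * p) ^ (n - 1) / (Nat.factorial (n - 1) : ℚ) +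
          (low n d s).eval (p : ℚ) := by
  obtain ⟨m, rfl⟩ := Nat.exists_eq_add_of_le hn
  rw [product_eq, coeff_mul, Finset.Nat.sum_antidiagonal_eq_sum_range_succ_mk, Nat.succ_eq_add_one,
    show 2 + m + 1 = (m + 1) + 1 + 1 by omega, Finset.sum_range_succ, Finset.sum_range_succ]
  simp only [show 2 + m - (m + 1) = 1 by omega, show 2 + m - (m + 1 + 1) = 0 by omega, R_zero, R_one,
    coeff_rescale_B, mul_one, Nat.sub_self, show 2 + m - 1 = m + 1 by omega, low, Polynomial.eval_finsetSum,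
    Polynomial.eval_monomial, show m + 1 + 1 = 2 + m by omega]
  rw [show (∑ x ∈ Finset.range (m + 1), bernoulli' x * ((d : ℚ) * p) ^ x / (x.factorial : ℚ) * coeff (2 + m - x) (R (2 + m) d s)) =
    ∑ x ∈ Finset.range (m + 1), bernoulli' x * (d : ℚ) ^ x / (x.factorial : ℚ) * coeff (2 + m - x) (R (2 + m) d s) * (p : ℚ) ^ x
    from Finset.sum_congr rfl fun x _ => by rw [mul_pow]; ring]
  ring

theorem bernoulli'_sign {k : ℕ} (hk : k ≠ 0) : 0 < (-1 : ℚ) ^ (k + 1) * bernoulli' (2 * k) := by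
  have h := hasSum_zeta_nat hk
  have hs : (1 : ℝ) ≤ (-1 : ℝ) ^ (k + 1) * (2 : ℝ) ^ (2 * k - 1) * Real.pi ^ (2 * k) *
      bernoulli (2 * k) / (Nat.factorial (2 * k) : ℝ) :=
    le_trans (by simp) (le_hasSum h 1 fun j _ => by positivity)
  have hq : (0 : ℝ) < (((-1 : ℚ) ^ (k + 1) * bernoulli (2 * k) : ℚ) : ℝ) := by
    by_contra hc
    have hc' := not_lt.1 hc
    push_cast at hc'
    have : (-1 : ℝ) ^ (k + 1) * (2 : ℝ) ^ (2 * k - 1) * Real.pi ^ (2 * k) *
      bernoulli (2 * k) / (Nat.factorial (2 * k) : ℝ) ≤ 0 := by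
      rw [show (-1 : ℝ) ^ (k + 1) * (2 : ℝ) ^ (2 * k - 1) * Real.pi ^ (2 * k) * bernoulli (2 * k) =
        ((2 : ℝ) ^ (2 * k - 1) * Real.pi ^ (2 * k)) * ((-1 : ℝ) ^ (k + 1) * bernoulli (2 * k)) by ring]
      exact div_nonpos_of_nonpos_of_nonneg (mul_nonpos_of_nonneg_of_nonpos (by positivity) hc') (by positivity)
    linarith
  rw [← bernoulli_eq_bernoulli'_of_ne_one (by omega)]
  exact_mod_cast hq

theorem tendsto_lead (L : Polynomial ℚ) (m : ℕ) (a : ℚ) (ha : a < 0) (hL : L.natDegree < m) :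
    ∃ P : ℕ, ∀ p : ℕ, P ≤ p → (Polynomial.C a * Polynomial.X ^ m + L).eval (p : ℚ) < 0 := by
  have hd : L.degree < (Polynomial.C a * Polynomial.X ^ m).degree := by
    rw [Polynomial.degree_C_mul_X_pow _ ha.ne]
    exact lt_of_le_of_lt Polynomial.degree_le_natDegree (by exact_mod_cast hL)
  have ht := Polynomial.tendsto_atBot_of_leadingCoeff_nonpos (Polynomial.C a * Polynomial.X ^ m + L)
    (by rw [Polynomial.degree_add_eq_left_of_degree_lt hd, Polynomial.degree_C_mul_X_pow _ ha.ne]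
        exact_mod_cast (by omega : 0 < m))
    (by rw [Polynomial.leadingCoeff_add_of_degree_lt' hd, Polynomial.leadingCoeff_C_mul_X_pow]; exact ha.le)
  obtain ⟨P, hP⟩ := Filter.eventually_atTop.1
    ((ht.comp tendsto_natCast_atTop_atTop).eventually_lt_atBot 0)
  exact ⟨P, hP⟩

theorem neg_of_sign (n d : ℕ) (s : ℤ) (hn : 2 ≤ n) (hd : 1 ≤ d)
    (h : n % 4 = 0 ∨ (n % 4 = 1 ∧ (n : ℤ) + d + 1 < 2 * s) ∨ (n % 4 = 3 ∧ 2 * s < (n : ℤ) + d + 1)) :
    ∃ P : ℕ, ∀ p : ℕ, P ≤ p →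
      coeff n ((rescale (-(d : ℚ)) B)⁻¹ * rescale (-((d : ℚ) * p)) B * B ^ (n + 1) *
        rescale ((d : ℚ) * p - d - n - 1 + s) (exp ℚ)) < 0 := by
  have hd0 : (0 : ℚ) < d := by exact_mod_cast hd
  have hL := low_natDegree n d s
  rcases h with h | h
  · obtain ⟨k, rfl⟩ : ∃ k, n = 2 * (2 * k) := ⟨n / 4, by omega⟩
    have hk : 2 * k ≠ 0 := by omega
    have hs := bernoulli'_sign hk
    rw [pow_succ, pow_mul, neg_one_sq, one_pow] at hs
    have ha : bernoulli' (2 * (2 * k)) * (d : ℚ) ^ (2 * (2 * k)) / (Nat.factorial (2 * (2 * k)) : ℚ) < 0 :=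
      div_neg_of_neg_of_pos (mul_neg_of_neg_of_pos (by linarith) (by positivity)) (by positivity)
    have hz : bernoulli' (2 * (2 * k) - 1) = 0 :=
      bernoulli'_eq_zero_of_odd ⟨2 * k - 1, by omega⟩ (by omega)
    obtain ⟨P, hP⟩ := tendsto_lead (low (2 * (2 * k)) d s) (2 * (2 * k)) _ ha (by omega)
    refine ⟨P, fun p hp => ?_⟩
    rw [coeff_eq _ d s hn p, hz]
    refine lt_of_eq_of_lt ?_ (hP p hp)
    simp [mul_pow]; ring
  · obtain ⟨k, rfl⟩ : ∃ k, n = 2 * k + 1 := ⟨n / 2, by omega⟩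
    have hs := bernoulli'_sign (show k ≠ 0 by omega)
    have hb : (2 * (s : ℚ) - d - ((2 * k + 1 : ℕ) : ℚ) - 1) / 2 * bernoulli' (2 * k) < 0 := by
      rcases h with ⟨hmod, hlt⟩ | ⟨hmod, hlt⟩
      · rw [Odd.neg_one_pow (⟨k / 2, by omega⟩ : Odd (k + 1))] at hs
        have : (0 : ℚ) < 2 * (s : ℚ) - d - ((2 * k + 1 : ℕ) : ℚ) - 1 := by
          have : ((2 * k + 1 : ℕ) : ℚ) + d + 1 < 2 * (s : ℚ) := by exact_mod_cast hlt
          linarith
        exact mul_neg_of_pos_of_neg (by linarith) (by linarith)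
      · rw [Even.neg_one_pow (⟨(k + 1) / 2, by omega⟩ : Even (k + 1))] at hs
        have : 2 * (s : ℚ) < ((2 * k + 1 : ℕ) : ℚ) + d + 1 := by exact_mod_cast hlt
        exact mul_neg_of_neg_of_pos (by linarith) (by linarith)
    have ha : (2 * (s : ℚ) - d - ((2 * k + 1 : ℕ) : ℚ) - 1) / 2 * bernoulli' (2 * k) * (d : ℚ) ^ (2 * k) /
        (Nat.factorial (2 * k) : ℚ) < 0 :=
      div_neg_of_neg_of_pos (mul_neg_of_neg_of_pos hb (by positivity)) (by positivity)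
    have hz : bernoulli' (2 * k + 1) = 0 := bernoulli'_eq_zero_of_odd ⟨k, rfl⟩ (by omega)
    obtain ⟨P, hP⟩ := tendsto_lead (low (2 * k + 1) d s) (2 * k) _ ha (by omega)
    refine ⟨P, fun p hp => ?_⟩
    rw [coeff_eq _ d s hn p, hz]
    refine lt_of_eq_of_lt ?_ (hP p hp)
    simp [mul_pow]; ring

end Groth.Agent.MBTodd
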